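import Cfsg.Agent.Lib.Helper35.ONOrd.U1.Data

set_option Elab.async false

namespace Cfsg.Agent.Lib.Helper35.ONOrd.U1

open Cfsg.Agent.Lib.Helper35

theorem s0c0 : allBelow (fun k => fs0 (Nat.add (Nat.succ 0) k)) 2430 = true := by decide +kernel
theorem s0u0 : ∀ v, 1 ≤ v → v ≤ 2430 → fs0 v = true := slots_step fs0 0 2430 2430 (slots_zero fs0) s0c0 rfl
theorem s0c1 : allBelow (fun k => fs0 (Nat.add (Nat.succ 2430) k)) 2421 = true := by decide +kernel
theorem s0u1 : ∀ v, 1 ≤ v → v ≤ 4851 → fs0 v = true := slots_step fs0 2430 2421 4851 s0u0 s0c1 rfl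
theorem s0c2 : allBelow (fun k => fs0 (Nat.add (Nat.succ 4851) k)) 2414 = true := by decide +kernel
theorem s0u2 : ∀ v, 1 ≤ v → v ≤ 7265 → fs0 v = true := slots_step fs0 4851 2414 7265 s0u1 s0c2 rfl
theorem s0c3 : allBelow (fun k => fs0 (Nat.add (Nat.succ 7265) k)) 2406 = true := by decide +kernel
theorem s0u3 : ∀ v, 1 ≤ v → v ≤ 9671 → fs0 v = true := slots_step fs0 7265 2406 9671 s0u2 s0c3 rfl
theorem s0c4 : allBelow (fun k => fs0 (Nat.add (Nat.succ 9671) k)) 2402 = true := by decide +kernel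
theorem s0u4 : ∀ v, 1 ≤ v → v ≤ 12073 → fs0 v = true := slots_step fs0 9671 2402 12073 s0u3 s0c4 rfl
theorem s0c5 : allBelow (fun k => fs0 (Nat.add (Nat.succ 12073) k)) 2378 = true := by decide +kernel
theorem s0u5 : ∀ v, 1 ≤ v → v ≤ 14451 → fs0 v = true := slots_step fs0 12073 2378 14451 s0u4 s0c5 rfl
theorem s0c6 : allBelow (fun k => fs0 (Nat.add (Nat.succ 14451) k)) 2366 = true := by decide +kernel
theorem s0u6 : ∀ v, 1 ≤ v → v ≤ 16817 → fs0 v = true := slots_step fs0 14451 2366 16817 s0u5 s0c6 rfl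
theorem s0c7 : allBelow (fun k => fs0 (Nat.add (Nat.succ 16817) k)) 2334 = true := by decide +kernel
theorem s0u7 : ∀ v, 1 ≤ v → v ≤ 19151 → fs0 v = true := slots_step fs0 16817 2334 19151 s0u6 s0c7 rfl
theorem s0c8 : allBelow (fun k => fs0 (Nat.add (Nat.succ 19151) k)) 2301 = true := by decide +kernel
theorem s0u8 : ∀ v, 1 ≤ v → v ≤ 21452 → fs0 v = true := slots_step fs0 19151 2301 21452 s0u7 s0c8 rfl
theorem s0c9 : allBelow (fun k => fs0 (Nat.add (Nat.succ 21452) k)) 2278 = true := by decide +kernel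
theorem s0u9 : ∀ v, 1 ≤ v → v ≤ 23730 → fs0 v = true := slots_step fs0 21452 2278 23730 s0u8 s0c9 rfl
theorem s0c10 : allBelow (fun k => fs0 (Nat.add (Nat.succ 23730) k)) 2254 = true := by decide +kernel
theorem s0u10 : ∀ v, 1 ≤ v → v ≤ 25984 → fs0 v = true := slots_step fs0 23730 2254 25984 s0u9 s0c10 rfl
theorem s0c11 : allBelow (fun k => fs0 (Nat.add (Nat.succ 25984) k)) 113 = true := by decide +kernel
theorem s0u11 : ∀ v, 1 ≤ v → v ≤ 26097 → fs0 v = true := slots_step fs0 25984 113 26097 s0u10 s0c11 rfl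
theorem s1c0 : allBelow (fun k => fs1 (Nat.add (Nat.succ 0) k)) 2453 = true := by decide +kernel
theorem s1u0 : ∀ v, 1 ≤ v → v ≤ 2453 → fs1 v = true := slots_step fs1 0 2453 2453 (slots_zero fs1) s1c0 rfl
theorem s1c1 : allBelow (fun k => fs1 (Nat.add (Nat.succ 2453) k)) 2449 = true := by decide +kernel
theorem s1u1 : ∀ v, 1 ≤ v → v ≤ 4902 → fs1 v = true := slots_step fs1 2453 2449 4902 s1u0 s1c1 rfl
theorem s1c2 : allBelow (fun k => fs1 (Nat.add (Nat.succ 4902) k)) 2414 = true := by decide +kernel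
theorem s1u2 : ∀ v, 1 ≤ v → v ≤ 7316 → fs1 v = true := slots_step fs1 4902 2414 7316 s1u1 s1c2 rfl
theorem s1c3 : allBelow (fun k => fs1 (Nat.add (Nat.succ 7316) k)) 2427 = true := by decide +kernel
theorem s1u3 : ∀ v, 1 ≤ v → v ≤ 9743 → fs1 v = true := slots_step fs1 7316 2427 9743 s1u2 s1c3 rfl
theorem s1c4 : allBelow (fun k => fs1 (Nat.add (Nat.succ 9743) k)) 2425 = true := by decide +kernel
theorem s1u4 : ∀ v, 1 ≤ v → v ≤ 12168 → fs1 v = true := slots_step fs1 9743 2425 12168 s1u3 s1c4 rfl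
theorem s1c5 : allBelow (fun k => fs1 (Nat.add (Nat.succ 12168) k)) 2392 = true := by decide +kernel
theorem s1u5 : ∀ v, 1 ≤ v → v ≤ 14560 → fs1 v = true := slots_step fs1 12168 2392 14560 s1u4 s1c5 rfl
theorem s1c6 : allBelow (fun k => fs1 (Nat.add (Nat.succ 14560) k)) 2339 = true := by decide +kernel
theorem s1u6 : ∀ v, 1 ≤ v → v ≤ 16899 → fs1 v = true := slots_step fs1 14560 2339 16899 s1u5 s1c6 rfl
theorem s1c7 : allBelow (fun k => fs1 (Nat.add (Nat.succ 16899) k)) 2320 = true := by decide +kernel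
theorem s1u7 : ∀ v, 1 ≤ v → v ≤ 19219 → fs1 v = true := slots_step fs1 16899 2320 19219 s1u6 s1c7 rfl
theorem s1c8 : allBelow (fun k => fs1 (Nat.add (Nat.succ 19219) k)) 2298 = true := by decide +kernel
theorem s1u8 : ∀ v, 1 ≤ v → v ≤ 21517 → fs1 v = true := slots_step fs1 19219 2298 21517 s1u7 s1c8 rfl
theorem s1c9 : allBelow (fun k => fs1 (Nat.add (Nat.succ 21517) k)) 2264 = true := by decide +kernel
theorem s1u9 : ∀ v, 1 ≤ v → v ≤ 23781 → fs1 v = true := slots_step fs1 21517 2264 23781 s1u8 s1c9 rfl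
theorem s1c10 : allBelow (fun k => fs1 (Nat.add (Nat.succ 23781) k)) 2256 = true := by decide +kernel
theorem s1u10 : ∀ v, 1 ≤ v → v ≤ 26037 → fs1 v = true := slots_step fs1 23781 2256 26037 s1u9 s1c10 rfl
theorem s1c11 : allBelow (fun k => fs1 (Nat.add (Nat.succ 26037) k)) 60 = true := by decide +kernel
theorem s1u11 : ∀ v, 1 ≤ v → v ≤ 26097 → fs1 v = true := slots_step fs1 26037 60 26097 s1u10 s1c11 rfl
theorem s2c0 : allBelow (fun k => fs2 (Nat.add (Nat.succ 0) k)) 2469 = true := by decide +kernel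
theorem s2u0 : ∀ v, 1 ≤ v → v ≤ 2469 → fs2 v = true := slots_step fs2 0 2469 2469 (slots_zero fs2) s2c0 rfl
theorem s2c1 : allBelow (fun k => fs2 (Nat.add (Nat.succ 2469) k)) 2453 = true := by decide +kernel
theorem s2u1 : ∀ v, 1 ≤ v → v ≤ 4922 → fs2 v = true := slots_step fs2 2469 2453 4922 s2u0 s2c1 rfl
theorem s2c2 : allBelow (fun k => fs2 (Nat.add (Nat.succ 4922) k)) 2413 = true := by decide +kernel
theorem s2u2 : ∀ v, 1 ≤ v → v ≤ 7335 → fs2 v = true := slots_step fs2 4922 2413 7335 s2u1 s2c2 rfl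
theorem s2c3 : allBelow (fun k => fs2 (Nat.add (Nat.succ 7335) k)) 2426 = true := by decide +kernel
theorem s2u3 : ∀ v, 1 ≤ v → v ≤ 9761 → fs2 v = true := slots_step fs2 7335 2426 9761 s2u2 s2c3 rfl
theorem s2c4 : allBelow (fun k => fs2 (Nat.add (Nat.succ 9761) k)) 2405 = true := by decide +kernel
theorem s2u4 : ∀ v, 1 ≤ v → v ≤ 12166 → fs2 v = true := slots_step fs2 9761 2405 12166 s2u3 s2c4 rfl
theorem s2c5 : allBelow (fun k => fs2 (Nat.add (Nat.succ 12166) k)) 2344 = true := by decide +kernel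
theorem s2u5 : ∀ v, 1 ≤ v → v ≤ 14510 → fs2 v = true := slots_step fs2 12166 2344 14510 s2u4 s2c5 rfl
theorem s2c6 : allBelow (fun k => fs2 (Nat.add (Nat.succ 14510) k)) 2306 = true := by decide +kernel
theorem s2u6 : ∀ v, 1 ≤ v → v ≤ 16816 → fs2 v = true := slots_step fs2 14510 2306 16816 s2u5 s2c6 rfl
theorem s2c7 : allBelow (fun k => fs2 (Nat.add (Nat.succ 16816) k)) 2287 = true := by decide +kernel
theorem s2u7 : ∀ v, 1 ≤ v → v ≤ 19103 → fs2 v = true := slots_step fs2 16816 2287 19103 s2u6 s2c7 rfl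
theorem s2c8 : allBelow (fun k => fs2 (Nat.add (Nat.succ 19103) k)) 2236 = true := by decide +kernel
theorem s2u8 : ∀ v, 1 ≤ v → v ≤ 21339 → fs2 v = true := slots_step fs2 19103 2236 21339 s2u7 s2c8 rfl
theorem s2c9 : allBelow (fun k => fs2 (Nat.add (Nat.succ 21339) k)) 2217 = true := by decide +kernel
theorem s2u9 : ∀ v, 1 ≤ v → v ≤ 23556 → fs2 v = true := slots_step fs2 21339 2217 23556 s2u8 s2c9 rfl
theorem s2c10 : allBelow (fun k => fs2 (Nat.add (Nat.succ 23556) k)) 2151 = true := by decide +kernel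
theorem s2u10 : ∀ v, 1 ≤ v → v ≤ 25707 → fs2 v = true := slots_step fs2 23556 2151 25707 s2u9 s2c10 rfl
theorem s2c11 : allBelow (fun k => fs2 (Nat.add (Nat.succ 25707) k)) 390 = true := by decide +kernel
theorem s2u11 : ∀ v, 1 ≤ v → v ≤ 26097 → fs2 v = true := slots_step fs2 25707 390 26097 s2u10 s2c11 rfl
theorem s3c0 : allBelow (fun k => fs3 (Nat.add (Nat.succ 0) k)) 2601 = true := by decide +kernel
theorem s3u0 : ∀ v, 1 ≤ v → v ≤ 2601 → fs3 v = true := slots_step fs3 0 2601 2601 (slots_zero fs3) s3c0 rfl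
theorem s3c1 : allBelow (fun k => fs3 (Nat.add (Nat.succ 2601) k)) 2556 = true := by decide +kernel
theorem s3u1 : ∀ v, 1 ≤ v → v ≤ 5157 → fs3 v = true := slots_step fs3 2601 2556 5157 s3u0 s3c1 rfl
theorem s3c2 : allBelow (fun k => fs3 (Nat.add (Nat.succ 5157) k)) 2579 = true := by decide +kernel
theorem s3u2 : ∀ v, 1 ≤ v → v ≤ 7736 → fs3 v = true := slots_step fs3 5157 2579 7736 s3u1 s3c2 rfl
theorem s3c3 : allBelow (fun k => fs3 (Nat.add (Nat.succ 7736) k)) 2554 = true := by decide +kernel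
theorem s3u3 : ∀ v, 1 ≤ v → v ≤ 10290 → fs3 v = true := slots_step fs3 7736 2554 10290 s3u2 s3c3 rfl
theorem s3c4 : allBelow (fun k => fs3 (Nat.add (Nat.succ 10290) k)) 2506 = true := by decide +kernel
theorem s3u4 : ∀ v, 1 ≤ v → v ≤ 12796 → fs3 v = true := slots_step fs3 10290 2506 12796 s3u3 s3c4 rfl
theorem s3c5 : allBelow (fun k => fs3 (Nat.add (Nat.succ 12796) k)) 2429 = true := by decide +kernel
theorem s3u5 : ∀ v, 1 ≤ v → v ≤ 15225 → fs3 v = true := slots_step fs3 12796 2429 15225 s3u4 s3c5 rfl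
theorem s3c6 : allBelow (fun k => fs3 (Nat.add (Nat.succ 15225) k)) 2389 = true := by decide +kernel
theorem s3u6 : ∀ v, 1 ≤ v → v ≤ 17614 → fs3 v = true := slots_step fs3 15225 2389 17614 s3u5 s3c6 rfl
theorem s3c7 : allBelow (fun k => fs3 (Nat.add (Nat.succ 17614) k)) 2339 = true := by decide +kernel
theorem s3u7 : ∀ v, 1 ≤ v → v ≤ 19953 → fs3 v = true := slots_step fs3 17614 2339 19953 s3u6 s3c7 rfl
theorem s3c8 : allBelow (fun k => fs3 (Nat.add (Nat.succ 19953) k)) 2311 = true := by decide +kernel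
theorem s3u8 : ∀ v, 1 ≤ v → v ≤ 22264 → fs3 v = true := slots_step fs3 19953 2311 22264 s3u7 s3c8 rfl
theorem s3c9 : allBelow (fun k => fs3 (Nat.add (Nat.succ 22264) k)) 2292 = true := by decide +kernel
theorem s3u9 : ∀ v, 1 ≤ v → v ≤ 24556 → fs3 v = true := slots_step fs3 22264 2292 24556 s3u8 s3c9 rfl
theorem s3c10 : allBelow (fun k => fs3 (Nat.add (Nat.succ 24556) k)) 1541 = true := by decide +kernel
theorem s3u10 : ∀ v, 1 ≤ v → v ≤ 26097 → fs3 v = true := slots_step fs3 24556 1541 26097 s3u9 s3c10 rfl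
theorem s4c0 : allBelow (fun k => fs4 (Nat.add (Nat.succ 0) k)) 2628 = true := by decide +kernel
theorem s4u0 : ∀ v, 1 ≤ v → v ≤ 2628 → fs4 v = true := slots_step fs4 0 2628 2628 (slots_zero fs4) s4c0 rfl
theorem s4c1 : allBelow (fun k => fs4 (Nat.add (Nat.succ 2628) k)) 2663 = true := by decide +kernel
theorem s4u1 : ∀ v, 1 ≤ v → v ≤ 5291 → fs4 v = true := slots_step fs4 2628 2663 5291 s4u0 s4c1 rfl
theorem s4c2 : allBelow (fun k => fs4 (Nat.add (Nat.succ 5291) k)) 2573 = true := by decide +kernel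
theorem s4u2 : ∀ v, 1 ≤ v → v ≤ 7864 → fs4 v = true := slots_step fs4 5291 2573 7864 s4u1 s4c2 rfl
theorem s4c3 : allBelow (fun k => fs4 (Nat.add (Nat.succ 7864) k)) 2542 = true := by decide +kernel
theorem s4u3 : ∀ v, 1 ≤ v → v ≤ 10406 → fs4 v = true := slots_step fs4 7864 2542 10406 s4u2 s4c3 rfl
theorem s4c4 : allBelow (fun k => fs4 (Nat.add (Nat.succ 10406) k)) 2546 = true := by decide +kernel
theorem s4u4 : ∀ v, 1 ≤ v → v ≤ 12952 → fs4 v = true := slots_step fs4 10406 2546 12952 s4u3 s4c4 rfl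
theorem s4c5 : allBelow (fun k => fs4 (Nat.add (Nat.succ 12952) k)) 2486 = true := by decide +kernel
theorem s4u5 : ∀ v, 1 ≤ v → v ≤ 15438 → fs4 v = true := slots_step fs4 12952 2486 15438 s4u4 s4c5 rfl
theorem s4c6 : allBelow (fun k => fs4 (Nat.add (Nat.succ 15438) k)) 2486 = true := by decide +kernel
theorem s4u6 : ∀ v, 1 ≤ v → v ≤ 17924 → fs4 v = true := slots_step fs4 15438 2486 17924 s4u5 s4c6 rfl
theorem s4c7 : allBelow (fun k => fs4 (Nat.add (Nat.succ 17924) k)) 2403 = true := by decide +kernel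
theorem s4u7 : ∀ v, 1 ≤ v → v ≤ 20327 → fs4 v = true := slots_step fs4 17924 2403 20327 s4u6 s4c7 rfl
theorem s4c8 : allBelow (fun k => fs4 (Nat.add (Nat.succ 20327) k)) 2396 = true := by decide +kernel
theorem s4u8 : ∀ v, 1 ≤ v → v ≤ 22723 → fs4 v = true := slots_step fs4 20327 2396 22723 s4u7 s4c8 rfl
theorem s4c9 : allBelow (fun k => fs4 (Nat.add (Nat.succ 22723) k)) 2325 = true := by decide +kernel
theorem s4u9 : ∀ v, 1 ≤ v → v ≤ 25048 → fs4 v = true := slots_step fs4 22723 2325 25048 s4u8 s4c9 rfl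
theorem s4c10 : allBelow (fun k => fs4 (Nat.add (Nat.succ 25048) k)) 1049 = true := by decide +kernel
theorem s4u10 : ∀ v, 1 ≤ v → v ≤ 26097 → fs4 v = true := slots_step fs4 25048 1049 26097 s4u9 s4c10 rfl
theorem s5c0 : allBelow (fun k => fs5 (Nat.add (Nat.succ 0) k)) 2626 = true := by decide +kernel
theorem s5u0 : ∀ v, 1 ≤ v → v ≤ 2626 → fs5 v = true := slots_step fs5 0 2626 2626 (slots_zero fs5) s5c0 rfl
theorem s5c1 : allBelow (fun k => fs5 (Nat.add (Nat.succ 2626) k)) 2625 = true := by decide +kernel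
theorem s5u1 : ∀ v, 1 ≤ v → v ≤ 5251 → fs5 v = true := slots_step fs5 2626 2625 5251 s5u0 s5c1 rfl
theorem s5c2 : allBelow (fun k => fs5 (Nat.add (Nat.succ 5251) k)) 2621 = true := by decide +kernel
theorem s5u2 : ∀ v, 1 ≤ v → v ≤ 7872 → fs5 v = true := slots_step fs5 5251 2621 7872 s5u1 s5c2 rfl
theorem s5c3 : allBelow (fun k => fs5 (Nat.add (Nat.succ 7872) k)) 2602 = true := by decide +kernel
theorem s5u3 : ∀ v, 1 ≤ v → v ≤ 10474 → fs5 v = true := slots_step fs5 7872 2602 10474 s5u2 s5c3 rfl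
theorem s5c4 : allBelow (fun k => fs5 (Nat.add (Nat.succ 10474) k)) 2582 = true := by decide +kernel
theorem s5u4 : ∀ v, 1 ≤ v → v ≤ 13056 → fs5 v = true := slots_step fs5 10474 2582 13056 s5u3 s5c4 rfl
theorem s5c5 : allBelow (fun k => fs5 (Nat.add (Nat.succ 13056) k)) 2531 = true := by decide +kernel
theorem s5u5 : ∀ v, 1 ≤ v → v ≤ 15587 → fs5 v = true := slots_step fs5 13056 2531 15587 s5u4 s5c5 rfl
theorem s5c6 : allBelow (fun k => fs5 (Nat.add (Nat.succ 15587) k)) 2467 = true := by decide +kernel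
theorem s5u6 : ∀ v, 1 ≤ v → v ≤ 18054 → fs5 v = true := slots_step fs5 15587 2467 18054 s5u5 s5c6 rfl
theorem s5c7 : allBelow (fun k => fs5 (Nat.add (Nat.succ 18054) k)) 2447 = true := by decide +kernel
theorem s5u7 : ∀ v, 1 ≤ v → v ≤ 20501 → fs5 v = true := slots_step fs5 18054 2447 20501 s5u6 s5c7 rfl
theorem s5c8 : allBelow (fun k => fs5 (Nat.add (Nat.succ 20501) k)) 2397 = true := by decide +kernel
theorem s5u8 : ∀ v, 1 ≤ v → v ≤ 22898 → fs5 v = true := slots_step fs5 20501 2397 22898 s5u7 s5c8 rfl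
theorem s5c9 : allBelow (fun k => fs5 (Nat.add (Nat.succ 22898) k)) 2351 = true := by decide +kernel
theorem s5u9 : ∀ v, 1 ≤ v → v ≤ 25249 → fs5 v = true := slots_step fs5 22898 2351 25249 s5u8 s5c9 rfl
theorem s5c10 : allBelow (fun k => fs5 (Nat.add (Nat.succ 25249) k)) 848 = true := by decide +kernel
theorem s5u10 : ∀ v, 1 ≤ v → v ≤ 26097 → fs5 v = true := slots_step fs5 25249 848 26097 s5u9 s5c10 rfl
theorem s6c0 : allBelow (fun k => fs6 (Nat.add (Nat.succ 0) k)) 6909 = true := by decide +kernel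
theorem s6u0 : ∀ v, 1 ≤ v → v ≤ 6909 → fs6 v = true := slots_step fs6 0 6909 6909 (slots_zero fs6) s6c0 rfl
theorem s6c1 : allBelow (fun k => fs6 (Nat.add (Nat.succ 6909) k)) 6834 = true := by decide +kernel
theorem s6u1 : ∀ v, 1 ≤ v → v ≤ 13743 → fs6 v = true := slots_step fs6 6909 6834 13743 s6u0 s6c1 rfl
theorem s6c2 : allBelow (fun k => fs6 (Nat.add (Nat.succ 13743) k)) 6872 = true := by decide +kernel
theorem s6u2 : ∀ v, 1 ≤ v → v ≤ 20615 → fs6 v = true := slots_step fs6 13743 6872 20615 s6u1 s6c2 rfl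
theorem s6c3 : allBelow (fun k => fs6 (Nat.add (Nat.succ 20615) k)) 5482 = true := by decide +kernel
theorem s6u3 : ∀ v, 1 ≤ v → v ≤ 26097 → fs6 v = true := slots_step fs6 20615 5482 26097 s6u2 s6c3 rfl
theorem gz : countBelow gl 0 = 0 := rfl
theorem gk0 : countBelow (fun k => gl (Nat.add 0 k)) 13818 = 13799 := by decide +kernel
theorem gn0 : countBelow gl 13818 = 13799 := countBelow_step gl 0 13818 13818 0 13799 13799 gz gk0 rfl rfl
theorem gk1 : countBelow (fun k => gl (Nat.add 13818 k)) 12279 = 12269 := by decide +kernel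
theorem gn1 : countBelow gl 26097 = 26068 := countBelow_step gl 13818 12279 26097 13799 12269 26068 gn0 gk1 rfl rfl

end Cfsg.Agent.Lib.Helper35.ONOrd.U1
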